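import Cfsg.Agent.H903.Ore.Large
import Cfsg.Agent.H529.Inv.Coset

/-!
# Products of four involutions in `C(z)`, `Q = O₂(C(z))` extraspecial (S4171, helper516)

* `i4_mul` : `g ∈ a b Q`, `a`, `b` products of two involutions of `C(z)`, `V = [V, ⟨a, b⟩]` for `V = Q/⟨z⟩`: `g` is a
  product of four involutions;
* `i4_in` : the elements of `Q` are products of two involutions;
* `exists_inv` : `a` of odd prime order with `|C_V(a)| = 4`, inverted modulo `Q` by an involution, an involution
  `t ∈ C_Q(a)` normalized modulo `z`: `a` is inverted by an involution of `C(z)`.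
-/

set_option autoImplicit false

namespace Cfsg.Agent.H516.Ore.LargeFour

open Cfsg.Agent.Co2Type.Quad (Large)
open Cfsg.Agent.H6.ORE
open Cfsg.Agent.H903.Ore.Large
open scoped commutatorElement

universe u

variable {K : Type u} [Group K] {Q : Subgroup K} {z : K}

/-! ### Cosets -/

/-- **The coset lemma.** -/
theorem i4_mul (h : Large Q z) {a b g : CZ z} (hfp : FPz (Q.subgroupOf (CZ z)) (zC z) a b)
    (ha : H529.Inv.I2 a) (hb : H529.Inv.I2 b) (hg : (((a * b)⁻¹ * g : CZ z) : K) ∈ Q) : H777.Ore.I4 (g : K) := by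
  have hE := es_of_large h
  have hn := hE.normal
  have hz := hE.normal_zpowers
  let N : ℕ → Subgroup (CZ z) := fun i => if i = 0 then Subgroup.zpowers (zC z) else Q.subgroupOf (CZ z)
  have N0 : N 0 = Subgroup.zpowers (zC z) := rfl
  have N1 : N 1 = Q.subgroupOf (CZ z) := rfl
  have hN : ∀ i, (N i).Normal := by
    intro i
    show (if i = 0 then Subgroup.zpowers (zC z) else Q.subgroupOf (CZ z)).Normal
    split_ifs
    · exact hz
    · exact hn
  have hz0 : ∀ x ∈ N 0, x * x = 1 ∧ ∀ y : CZ z, x * y = y * x := by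
    intro x hx
    rw [N0, hE.mem_zpowers] at hx
    rcases hx with rfl | rfl
    · exact ⟨by simp, fun y => by simp⟩
    · exact ⟨hE.sq, fun y => (hE.central y).symm⟩
  have key := H529.Inv.coset_two_central (a := a) (b := b) N 1 ha hb hz0
    (by
      intro i hi
      obtain rfl : i = 0 := by omega
      rw [N0, show N (0 + 1) = N 1 from rfl, N1, Subgroup.zpowers_le]
      exact hE.mem)
    (by
      intro i hi x hx y hy
      obtain rfl : i = 0 := by omega
      rw [N0, hE.mem_zpowers]
      have hx' : x ∈ Q.subgroupOf (CZ z) := hx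
      have hy' : y ∈ Q.subgroupOf (CZ z) := hy
      rcases hE.comm x hx' y hy' with e | e
      · left
        rw [commutatorElement_eq_one_iff_mul_comm]
        exact e
      · right
        rw [commutatorElement_def, e]
        calc y * x * zC z * x⁻¹ * y⁻¹ = y * x * (zC z * (x⁻¹ * y⁻¹)) := by group
          _ = y * x * ((x⁻¹ * y⁻¹) * zC z) := by rw [hE.central (x⁻¹ * y⁻¹)]
          _ = zC z := by group)
    (by
      intro i hi
      obtain rfl : i = 0 := by omega
      intro w hw
      have hw' : w ∈ Q.subgroupOf (CZ z) := hw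
      obtain ⟨u', hu, v, hv, ζ, hζ, e⟩ := hfp w hw'
      have h1 : ⁅u', b⁆ = u' * (b * u' * b⁻¹)⁻¹ := by rw [commutatorElement_def]; group
      have h2 : ⁅v, a⁆ = v * (a * v * a⁻¹)⁻¹ := by rw [commutatorElement_def]; group
      rw [e, ← h1, ← h2]
      refine Subgroup.mul_mem _ (Subgroup.mul_mem _ ?_ ?_) ?_
      · exact Subgroup.mem_sup_right (Subgroup.subset_closure ⟨u', hu, b, by simp, rfl⟩)
      · exact Subgroup.mem_sup_right (Subgroup.subset_closure ⟨v, hv, a, by simp, rfl⟩)
      · exact Subgroup.mem_sup_left (by rw [N0, hE.mem_zpowers]; exact hζ))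
    (n := (a * b)⁻¹ * g) hg
  rw [mul_inv_cancel_left] at key
  obtain ⟨s₁, s₂, s₃, s₄, h1, h2, h3, h4, e⟩ := key
  exact ⟨s₁, s₂, s₃, s₄, congrArg Subtype.val h1, congrArg Subtype.val h2, congrArg Subtype.val h3,
    congrArg Subtype.val h4, congrArg Subtype.val e⟩

/-! ### Elements of `Q` -/

/-- if `q v = 1`, there is a singular vector not orthogonal to `v` -/
theorem exists_sing [Finite Q] (h : Large Q z) (hV : 4 < Nat.card h.V) {v : h.V} (hv : h.q v = 1) :
    ∃ w, h.q w = 0 ∧ h.b v w = 1 := by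
  by_contra hcon
  push Not at hcon
  have z2 : ∀ t : ZMod 2, t ≠ 0 → t = 1 := by decide
  have z2' : ∀ t : ZMod 2, t ≠ 1 → t = 0 := by decide
  have hq : ∀ w, h.b v w = 1 → h.q w = 1 := fun w hw => z2 _ fun h0 => hcon w h0 hw
  have hv0 : v ≠ 0 := by
    rintro rfl
    rw [h.q_zero] at hv
    exact absurd hv (by decide)
  obtain ⟨w₀, hw₀⟩ : ∃ w, h.b v w = 1 := by
    by_contra hno
    push Not at hno
    exact hv0 (h.b_nondeg fun w => z2' _ (hno w))
  have h1 : ∀ u, h.b v u = 0 → h.q u = h.b w₀ u := by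
    intro u hu
    have e1 := hq (w₀ + u) (by rw [map_add, hw₀, hu, add_zero])
    rw [h.q_add', hq w₀ hw₀] at e1
    have key : ∀ s t : ZMod 2, 1 + s + t = 1 → s = t := by decide
    exact key _ _ e1
  have h2 : ∀ u₁ u₂, h.b v u₁ = 0 → h.b v u₂ = 0 → h.b u₁ u₂ = 0 := by
    intro u₁ u₂ e1 e2
    have e3 := h1 (u₁ + u₂) (by rw [map_add, e1, e2, add_zero])
    rw [h.q_add', h1 u₁ e1, h1 u₂ e2, map_add] at e3
    have key : ∀ s t r : ZMod 2, s + t + r = s + t → r = 0 := by decide
    exact key _ _ _ e3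
  have h3 : ∀ u, h.b v u = 0 → u = 0 ∨ u = v := by
    intro u hu
    have hb : ∀ w, h.b w w = 0 := h.b_self
    have aux : ∀ u', h.b v u' = 0 → h.b w₀ u' = 0 → u' = 0 := by
      intro u' e1 e2
      refine h.b_nondeg fun w => ?_
      by_cases hw : h.b v w = 0
      · exact h2 u' w e1 hw
      · have hw1 := z2 _ hw
        have e3 := h2 u' (w + w₀) e1 (by rw [map_add, hw1, hw₀]; decide)
        rw [map_add, h.b_comm u' w₀, e2, add_zero] at e3
        exact e3
    by_cases h0 : h.b w₀ u = 0
    · exact Or.inl (aux u hu h0)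
    · right
      have e1 := aux (u + v) (by rw [map_add, hu, hb, add_zero]) (by
        rw [map_add, z2 _ h0, h.b_comm w₀ v, hw₀]; decide)
      calc u = u + v + v := by rw [add_assoc, h.add_self, add_zero]
        _ = v := by rw [e1, zero_add]
  -- at most four vectors
  classical
  have h4 : Nat.card h.V ≤ Nat.card (Bool × Bool) := by
    refine Nat.card_le_card_of_injective (fun u => (decide (h.b v u = 0),
      if h.b v u = 0 then decide (u = 0) else decide (u = w₀))) ?_
    intro u u' e
    rw [Prod.mk.injEq] at e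
    obtain ⟨e1, e2⟩ := e
    rw [decide_eq_decide] at e1
    by_cases hu : h.b v u = 0
    · have hu' := e1.1 hu
      rw [if_pos hu, if_pos hu', decide_eq_decide] at e2
      rcases h3 u hu with rfl | rfl
      · exact (e2.1 rfl).symm
      · rcases h3 u' hu' with rfl | rfl
        · exact e2.2 rfl
        · rfl
    · have hu' : ¬ h.b v u' = 0 := fun hh => hu (e1.2 hh)
      rw [if_neg hu, if_neg hu', decide_eq_decide] at e2
      have g1 : ∀ x, ¬ h.b v x = 0 → x = w₀ ∨ x = w₀ + v := by
        intro x hx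
        rcases h3 (x + w₀) (by rw [map_add, z2 _ hx, hw₀]; decide) with e | e
        · left
          calc x = x + w₀ + w₀ := by rw [add_assoc, h.add_self, add_zero]
            _ = w₀ := by rw [e, zero_add]
        · right
          calc x = x + w₀ + w₀ := by rw [add_assoc, h.add_self, add_zero]
            _ = w₀ + v := by rw [e, add_comm]
      rcases g1 u hu with rfl | rfl
      · exact (e2.1 rfl).symm
      · rcases g1 u' hu' with rfl | rfl
        · exact e2.2 rfl
        · rfl
  have h5 : Nat.card (Bool × Bool) = 4 := by simp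
  omega

/-- **The elements of `Q` are products of two elements of square one.** -/
theorem i2_in [Finite Q] (h : Large Q z) (hV : 4 < Nat.card h.V) {x : K} (hx : x ∈ Q) :
    ∃ s t : K, s * s = 1 ∧ t * t = 1 ∧ x = s * t := by
  rcases h.sq x hx with h1 | h1
  · exact ⟨x, 1, h1, by simp, by simp⟩
  · have h2 : h.q (h.pr ⟨x, hx⟩) = 1 := h.q_eq_one.2 h1
    obtain ⟨w, hw, hb⟩ := exists_sing h hV h2
    obtain ⟨y, rfl⟩ := h.pr_surjective w
    have hy : (y : K) * y = 1 := h.q_eq_zero.1 hw
    have hne : ¬ x * (y : K) = y * x := fun hh => by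
      rw [(h.b_pr ⟨x, hx⟩ y).2 hh] at hb
      exact absurd hb (by decide)
    have hc : (y : K) * x = x * y * z := by
      rcases h.comm x hx y y.2 with e | e
      · exact absurd e hne
      · rw [e, mul_assoc, h.z_sq, mul_one]
    refine ⟨x * y, y, ?_, hy, by rw [mul_assoc, hy, mul_one]⟩
    calc x * y * (x * y) = x * (y * x) * y := by group
      _ = x * (x * y * z) * y := by rw [hc]
      _ = x * x * y * (z * y) := by group
      _ = x * x * y * (y * z) := by rw [← h.comm_z y y.2]
      _ = (x * x) * (y * y) * z := by group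
      _ = 1 := by rw [h1, hy, mul_one, h.z_sq]

theorem i4_in [Finite Q] (h : Large Q z) (hV : 4 < Nat.card h.V) {x : K} (hx : x ∈ Q) : H777.Ore.I4 x := by
  obtain ⟨s, t, hs, ht, e⟩ := i2_in h hV hx
  exact ⟨s, t, 1, 1, hs, ht, by simp, by simp, by rw [e]; simp⟩

/-! ### An involution of `C(z)` inverting an element of odd order -/

/-- an element of `Q` fixed modulo `z` by an element of odd order commutes with it -/
theorem comm_of_fix (h : Large Q z) {a : CZ z} {r : ℕ} (hodd : Odd r) (ha : a ^ r = 1) {x : Q}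
    (hx : h.act a (h.pr x) = h.pr x) : (a : K) * x = x * a := by
  rw [h.act_pr, h.pr_eq_pr] at hx
  have haz : (a : K) * z = z * a := Subgroup.mem_centralizer_singleton_iff.1 a.2
  rcases hx with e | e
  · have e' : (a : K) * x * (a : K)⁻¹ = x := e
    exact mul_inv_eq_iff_eq_mul.1 e'
  · exfalso
    have e' : (a : K) * x * (a : K)⁻¹ = x * z := e
    have e1 : (a : K) * x = x * z * a := mul_inv_eq_iff_eq_mul.1 e'
    have key : ∀ i : ℕ, (a : K) ^ i * x = x * z ^ i * (a : K) ^ i := by
      intro i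
      induction i with
      | zero => simp
      | succ i ih =>
        have hzi : z ^ i * z = z * z ^ i := by rw [← pow_succ, pow_succ']
        have hai : (a : K) ^ i * z = z * (a : K) ^ i := by
          clear ih hzi
          induction i with
          | zero => simp
          | succ i ih => rw [pow_succ, mul_assoc, haz, ← mul_assoc, ih, mul_assoc]
        calc (a : K) ^ (i + 1) * x = (a : K) ^ i * (a * x) := by rw [pow_succ, mul_assoc]
          _ = (a : K) ^ i * x * (z * a) := by rw [e1]; simp only [mul_assoc]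
          _ = x * z ^ i * ((a : K) ^ i * z) * a := by rw [ih]; simp only [mul_assoc]
          _ = x * (z ^ i * z) * (a ^ i * a) := by rw [hai]; simp only [mul_assoc]
          _ = x * z ^ (i + 1) * (a : K) ^ (i + 1) := by rw [← pow_succ, ← pow_succ]
    have h1 := key r
    have h2 : (a : K) ^ r = 1 := by
      have := congrArg Subtype.val ha
      simpa using this
    obtain ⟨m, rfl⟩ := hodd
    rw [h2, one_mul, mul_one, pow_succ, pow_mul, pow_two, h.z_sq, one_pow, one_mul] at h1
    exact h.z_ne (mul_eq_left.1 h1.symm)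

theorem fix_of_comm (h : Large Q z) {a : CZ z} {x : Q} (hx : (a : K) * x = x * a) :
    h.act a (h.pr x) = h.pr x := by
  rw [h.act_pr, h.pr_eq_pr]
  left
  show (a : K) * x * (a : K)⁻¹ = x
  rw [hx, mul_assoc, mul_inv_cancel, mul_one]

/-- the form is non-degenerate on the fixed points of an isometry of odd order -/
theorem fix_nondeg (h : Large Q z) {α : h.V ≃ₗ[ZMod 2] h.V} (hα : ∀ v w, h.b (α v) (α w) = h.b v w) {r : ℕ}
    (hodd : Odd r) (hαr : α ^ r = 1) {f : h.V} (hf : α f = f) (hw : ∀ w, α w = w → h.b f w = 0) : f = 0 := by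
  refine h.b_nondeg fun v => ?_
  have hpow : ∀ (i : ℕ) (v w : h.V), h.b ((α ^ i) v) ((α ^ i) w) = h.b v w := by
    intro i
    induction i with
    | zero => intro v w; rfl
    | succ i ih => intro v w; rw [pow_succ]; exact (ih _ _).trans (hα v w)
  have hpf : ∀ (i : ℕ), (α ^ i) f = f := by
    intro i
    induction i with
    | zero => rfl
    | succ i ih =>
      rw [pow_succ]
      show (α ^ i) (α f) = f
      rw [hf, ih]
  have hN : α (∑ i ∈ Finset.range r, (α ^ i) v) = ∑ i ∈ Finset.range r, (α ^ i) v := by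
    rw [map_sum]
    have h1 : ∀ i, α ((α ^ i) v) = (α ^ (i + 1)) v := fun i => by rw [pow_succ']; rfl
    simp_rw [h1]
    have h2 := Finset.sum_range_succ (fun i => (α ^ i) v) r
    have h3 := Finset.sum_range_succ' (fun i => (α ^ i) v) r
    rw [h2, hαr] at h3
    have h4 : (1 : h.V ≃ₗ[ZMod 2] h.V) v = (α ^ 0) v := by rw [pow_zero]
    rw [h4] at h3
    exact (add_right_cancel h3).symm
  have h1 := hw _ hN
  rw [map_sum] at h1
  have h2 : ∀ i ∈ Finset.range r, h.b f ((α ^ i) v) = h.b f v := by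
    intro i _
    have := hpow i f v
    rwa [hpf i] at this
  rw [Finset.sum_congr rfl h2, Finset.sum_const, Finset.card_range, nsmul_eq_mul] at h1
  have h3 : (r : ZMod 2) = 1 := by
    obtain ⟨m, rfl⟩ := hodd
    push_cast
    have : (2 : ZMod 2) = 0 := rfl
    rw [this, zero_mul, zero_add]
  rwa [h3, one_mul] at h1

/-- making an element commute with `s`, `t` -/
theorem exists_adj {G : Type*} [Group G] {s t n z : G} (hz : z * z = 1) (_hzs : z * s = s * z) (hzt : z * t = t * z)
    (hzn : z * n = n * z) (hst : s * t = t * s * z) (hnt : n * t = t * n ∨ n * t = t * n * z)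
    (hns : n * s = s * n ∨ n * s = s * n * z) :
    ∃ p, (p = 1 ∨ p = s ∨ p = t ∨ p = s * t) ∧ p * n * t = t * (p * n) ∧ p * n * s = s * (p * n) := by
  have hts : t * s = s * t * z := by rw [hst, mul_assoc, hz, mul_one]
  rcases hnt with h1 | h1 <;> rcases hns with h2 | h2
  · exact ⟨1, Or.inl rfl, by rw [one_mul, h1], by rw [one_mul, h2]⟩
  · refine ⟨t, Or.inr (Or.inr (Or.inl rfl)), by rw [mul_assoc, h1], ?_⟩
    calc t * n * s = t * (n * s) := by group
      _ = (t * s) * n * z := by rw [h2]; group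
      _ = s * t * (z * n) * z := by rw [hts]; group
      _ = s * t * n * (z * z) := by rw [hzn]; group
      _ = s * (t * n) := by rw [hz]; group
  · refine ⟨s, Or.inr (Or.inl rfl), ?_, by rw [mul_assoc, h2]⟩
    calc s * n * t = s * (n * t) := by group
      _ = (s * t) * n * z := by rw [h1]; group
      _ = t * s * (z * n) * z := by rw [hst]; group
      _ = t * s * n * (z * z) := by rw [hzn]; group
      _ = t * (s * n) := by rw [hz]; group
  · refine ⟨s * t, Or.inr (Or.inr (Or.inr rfl)), ?_, ?_⟩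
    · calc s * t * n * t = s * t * (n * t) := by group
        _ = (s * t) * t * n * z := by rw [h1]; group
        _ = t * s * (z * t) * n * z := by rw [hst]; group
        _ = t * s * t * (z * n) * z := by rw [hzt]; group
        _ = t * s * t * n * (z * z) := by rw [hzn]; group
        _ = t * (s * t * n) := by rw [hz]; group
    · calc s * t * n * s = s * t * (n * s) := by group
        _ = s * (t * s) * n * z := by rw [h2]; group
        _ = s * (s * t * z) * n * z := by rw [hts]
        _ = s * (s * t) * (z * n) * z := by group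
        _ = s * (s * t) * n * (z * z) := by rw [hzn]; group
        _ = s * (s * t * n) := by rw [hz]; group

/-- **An involution of `C(z)` inverting `a`.** -/
theorem exists_inv [Finite Q] (h : Large Q z) {a n : CZ z} {r : ℕ} (hodd : Odd r) (ha : a ^ r = 1)
    (hn : n * a * n⁻¹ = a⁻¹) (hn2 : ((n * n : CZ z) : K) ∈ Q) (h4 : {v : h.V | h.act a v = v}.ncard = 4)
    {v₁ : h.V} (hq : h.q v₁ = 0) (h0 : v₁ ≠ 0) (ha1 : h.act a v₁ = v₁) (hn1 : h.act n v₁ = v₁) :
    ∃ τ : CZ z, τ * τ = 1 ∧ τ * a * τ⁻¹ = a⁻¹ := by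
  have z2 : ∀ t : ZMod 2, t ≠ 0 → t = 1 := by decide
  have hαr : h.act a ^ r = 1 := by rw [← map_pow, ha, map_one]
  obtain ⟨v₂, ha2, hb⟩ : ∃ v₂, h.act a v₂ = v₂ ∧ h.b v₁ v₂ = 1 := by
    by_contra hno
    push Not at hno
    refine h0 (fix_nondeg h (h.b_act a) hodd hαr ha1 fun w hw => ?_)
    by_contra h1
    exact hno w hw (z2 _ h1)
  have hb0 : ∀ v, h.b v v = 0 := h.b_self
  -- the four fixed vectors
  have n2 : v₂ ≠ 0 := by rintro rfl; rw [map_zero] at hb; exact absurd hb (by decide)
  have n12 : v₁ ≠ v₂ := by rintro rfl; rw [hb0] at hb; exact absurd hb (by decide)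
  have n3 : v₁ + v₂ ≠ 0 := fun e => n12 (by
    calc v₁ = v₁ + v₂ + v₂ := by rw [add_assoc, h.add_self, add_zero]
      _ = v₂ := by rw [e, zero_add])
  have n13 : v₁ ≠ v₁ + v₂ := fun e => n2 (by simpa using e)
  have n23 : v₂ ≠ v₁ + v₂ := fun e => h0 (by simpa using e)
  have hfin : {v : h.V | h.act a v = v}.Finite := Set.finite_of_ncard_ne_zero (by rw [h4]; norm_num)
  have hF : ∀ v, h.act a v = v → v = 0 ∨ v = v₁ ∨ v = v₂ ∨ v = v₁ + v₂ := by
    have hS : ({0, v₁, v₂, v₁ + v₂} : Set h.V) = {v : h.V | h.act a v = v} := by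
      refine Set.eq_of_subset_of_ncard_le ?_ ?_ hfin
      · rintro v (rfl | rfl | rfl | rfl)
        · exact map_zero _
        · exact ha1
        · exact ha2
        · show h.act a (v₁ + v₂) = v₁ + v₂
          rw [map_add, ha1, ha2]
      · rw [h4]
        have e1 : ({v₂, v₁ + v₂} : Set h.V).ncard = 2 := Set.ncard_pair n23
        have e2 : ({v₁, v₂, v₁ + v₂} : Set h.V).ncard = 3 := by
          rw [Set.ncard_insert_of_notMem _ (Set.toFinite _), e1]
          rintro (e | e)
          · exact n12 e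
          · exact n13 e
        rw [Set.ncard_insert_of_notMem _ (Set.toFinite _), e2]
        rintro (e | e | e)
        · exact h0 e.symm
        · exact n2 e.symm
        · exact n3 e.symm
    intro v hv
    have : v ∈ ({0, v₁, v₂, v₁ + v₂} : Set h.V) := by rw [hS]; exact hv
    simpa using this
  -- `n` fixes `v₂`
  have han : a * n = n * a⁻¹ := by
    have e1 : n * a = a⁻¹ * n := mul_inv_eq_iff_eq_mul.1 hn
    calc a * n = a * (n * a) * a⁻¹ := by group
      _ = n * a⁻¹ := by rw [e1]; group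
  have hinv2 : h.act a⁻¹ v₂ = v₂ := by
    conv_lhs => rw [← ha2]
    rw [← LinearEquiv.mul_apply, ← map_mul, inv_mul_cancel, map_one]
    rfl
  have hn2v : h.act n v₂ = v₂ := by
    have e1 : h.act a (h.act n v₂) = h.act n v₂ := by
      rw [← LinearEquiv.mul_apply, ← map_mul, han, map_mul, LinearEquiv.mul_apply, hinv2]
    rcases hF _ e1 with e | e | e | e
    · exact absurd ((h.act n).injective (by rw [e, map_zero])) n2
    · exact absurd ((h.act n).injective (by rw [e, hn1])).symm n12
    · exact e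
    · exfalso
      have e2 := h.q_act n v₂
      rw [e, h.q_add', hq, hb, zero_add] at e2
      exact absurd e2 (by generalize h.q v₂ = t; revert t; decide)
  -- lifts
  obtain ⟨t, rfl⟩ := h.pr_surjective v₁
  obtain ⟨s, rfl⟩ := h.pr_surjective v₂
  have hta := comm_of_fix h hodd ha ha1
  have hsa := comm_of_fix h hodd ha ha2
  have hzn : z * (n : K) = n * z := (Subgroup.mem_centralizer_singleton_iff.1 n.2).symm
  have hza : z * (a : K) = a * z := (Subgroup.mem_centralizer_singleton_iff.1 a.2).symm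
  have hzs : z * (s : K) = s * z := (h.comm_z s s.2).symm
  have hzt : z * (t : K) = t * z := (h.comm_z t t.2).symm
  have hst : (s : K) * t = t * s * z := by
    rcases h.comm s s.2 t t.2 with e | e
    · rw [(h.b_pr t s).2 e.symm] at hb
      exact absurd hb (by decide)
    · exact e
  have conv : ∀ x : Q, h.act n (h.pr x) = h.pr x → (n : K) * x = x * n ∨ (n : K) * x = x * n * z := by
    intro x hx
    rw [h.act_pr, h.pr_eq_pr] at hx
    rcases hx with e | e
    · left
      exact mul_inv_eq_iff_eq_mul.1 e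
    · right
      have e' : (n : K) * x = x * z * n := mul_inv_eq_iff_eq_mul.1 e
      rw [e', mul_assoc, hzn, mul_assoc]
  obtain ⟨p, hp, hmt, hms⟩ := exists_adj h.z_sq hzs hzt hzn hst (conv t hn1) (conv s hn2v)
  have hpQ : p ∈ Q := by
    rcases hp with rfl | rfl | rfl | rfl
    · exact Q.one_mem
    · exact s.2
    · exact t.2
    · exact Q.mul_mem s.2 t.2
  have hpa : (a : K) * p = p * a := by
    rcases hp with rfl | rfl | rfl | rfl
    · simp
    · exact hsa
    · exact hta
    · rw [← mul_assoc, hsa, mul_assoc, hta, mul_assoc]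
  have hpC : p ∈ CZ z := Subgroup.mem_centralizer_singleton_iff.2 (h.comm_z p hpQ)
  obtain ⟨m, hm⟩ : ∃ m : CZ z, m = ⟨p, hpC⟩ * n := ⟨_, rfl⟩
  have hmK : (m : K) = p * n := by rw [hm]; rfl
  have hma : m * a * m⁻¹ = a⁻¹ := by
    have e1 : a⁻¹ * (⟨p, hpC⟩ : CZ z) = ⟨p, hpC⟩ * a⁻¹ := by
      have e2 : a * (⟨p, hpC⟩ : CZ z) = ⟨p, hpC⟩ * a := Subtype.ext hpa
      rw [inv_mul_eq_iff_eq_mul, ← mul_assoc, e2, mul_assoc, mul_inv_cancel, mul_one]
    rw [hm]
    calc (⟨p, hpC⟩ : CZ z) * n * a * (⟨p, hpC⟩ * n)⁻¹ = ⟨p, hpC⟩ * (n * a * n⁻¹) * (⟨p, hpC⟩ : CZ z)⁻¹ := by group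
      _ = a⁻¹ := by rw [hn, ← e1]; group
  have hmmQ : ((m * m : CZ z) : K) ∈ Q := by
    have e1 : ((m * m : CZ z) : K) = p * ((n : K) * p * (n : K)⁻¹) * ((n * n : CZ z) : K) := by
      show (m : K) * m = _
      rw [hmK]
      show p * n * (p * n) = p * ((n : K) * p * (n : K)⁻¹) * ((n : K) * n)
      group
    rw [e1]
    exact Q.mul_mem (Q.mul_mem hpQ (h.conj_mem n (Subgroup.mem_centralizer_singleton_iff.1 n.2) p hpQ)) hn2
  have hmt' : (m : K) * t = t * m := by rw [hmK]; exact hmt
  have hms' : (m : K) * s = s * m := by rw [hmK]; exact hms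
  have hmm : ∀ y : K, (m : K) * y = y * m → ((m : K) * m) * y = y * ((m : K) * m) := by
    intro y hy
    rw [mul_assoc, hy, ← mul_assoc, hy, mul_assoc]
  have hmam : m * a = a⁻¹ * m := mul_inv_eq_iff_eq_mul.1 hma
  have hmma : a * (m * m) = (m * m) * a := by
    calc a * (m * m) = a * m * (a * a⁻¹) * m := by group
      _ = a * (m * a) * (a⁻¹ * m) := by group
      _ = a * (a⁻¹ * m) * (m * a) := by rw [hmam]
      _ = m * m * a := by group
  have hfx := fix_of_comm h (a := a) (x := ⟨((m * m : CZ z) : K), hmmQ⟩) (congrArg Subtype.val hmma)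
  have hbt : h.b (h.pr ⟨((m * m : CZ z) : K), hmmQ⟩) (h.pr t) = 0 := (h.b_pr _ _).2 (hmm t hmt')
  have hbs : h.b (h.pr ⟨((m * m : CZ z) : K), hmmQ⟩) (h.pr s) = 0 := (h.b_pr _ _).2 (hmm s hms')
  have hpr0 : h.pr ⟨((m * m : CZ z) : K), hmmQ⟩ = 0 := by
    rcases hF _ hfx with e | e | e | e
    · exact e
    · rw [e, hb] at hbs; exact absurd hbs (by decide)
    · rw [e, h.b_comm, hb] at hbt; exact absurd hbt (by decide)
    · rw [e, map_add, LinearMap.add_apply, hb0, h.b_comm, hb] at hbt; exact absurd hbt (by decide)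
  rcases h.pr_eq_zero.1 hpr0 with e | e
  · exact ⟨m, Subtype.ext e, hma⟩
  · -- an element of order four
    obtain ⟨c, hcQ, hcc, hca, hcm⟩ : ∃ c ∈ Q, c * c = z ∧ (a : K) * c = c * a ∧ (m : K) * c = c * m := by
      rcases h.sq s s.2 with e1 | e1
      · refine ⟨t * s, Q.mul_mem t.2 s.2, ?_, ?_, ?_⟩
        · have htt : (t : K) * t = 1 := h.q_eq_zero.1 hq
          calc (t : K) * s * (t * s) = t * (s * t) * s := by group
            _ = t * t * s * (z * s) := by rw [hst]; group
            _ = (t * t) * (s * s) * z := by rw [hzs]; group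
            _ = z := by rw [htt, e1, mul_one, one_mul]
        · rw [← mul_assoc, hta, mul_assoc, hsa, mul_assoc]
        · rw [← mul_assoc, hmt', mul_assoc, hms', mul_assoc]
      · exact ⟨s, s.2, e1, hsa, hms'⟩
    have hcC : c ∈ CZ z := Subgroup.mem_centralizer_singleton_iff.2 (h.comm_z c hcQ)
    have c1 : m * (⟨c, hcC⟩ : CZ z) = ⟨c, hcC⟩ * m := Subtype.ext hcm
    have c2 : a * (⟨c, hcC⟩ : CZ z) = ⟨c, hcC⟩ * a := Subtype.ext hca
    refine ⟨m * ⟨c, hcC⟩, ?_, ?_⟩
    · apply Subtype.ext
      show (m : K) * c * (m * c) = 1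
      calc (m : K) * c * (m * c) = m * (c * m) * c := by group
        _ = (m * m) * (c * c) := by rw [← hcm]; group
        _ = z * z := by rw [hcc, show (m : K) * m = z from e]
        _ = 1 := h.z_sq
    · calc m * (⟨c, hcC⟩ : CZ z) * a * (m * ⟨c, hcC⟩)⁻¹ = m * (⟨c, hcC⟩ * a) * (⟨c, hcC⟩ : CZ z)⁻¹ * m⁻¹ := by group
        _ = m * a * m⁻¹ := by rw [← c2]; group
        _ = a⁻¹ := hma

end Cfsg.Agent.H516.Ore.LargeFour
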