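import Cfsg.Agent.H633.Ore.Co2Mdl
import Cfsg.Agent.H516.Ore.CoTwo11

/-!
# `OreF11` on the model of `Co2` of helper633 (helper516)

`oreF11_of` : `BabyFour.OreF11` from the class cover of `Co2`.
-/

set_option autoImplicit false
set_option maxRecDepth 100000

namespace Cfsg.Agent.H516.Ore.CoTwoFr

open Cfsg Cfsg.Agent.H633.Ore Cfsg.Agent.H633.Ore.Co2 Cfsg.Agent.H633.Ore.Co2D Cfsg.Agent.H516.Ore.BabyFour
open Cfsg.Agent.H843.IMC.Co2B (Y)

theorem hy : ∃ y : Y, M.cd y = 1 := by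
  refine ⟨eY ⟨0, by norm_num⟩, ?_⟩
  show ent 22 TT ((eY.symm (eY ⟨0, by norm_num⟩)).1) = 1
  rw [Equiv.symm_apply_apply]
  exact ent_zero

theorem hT : CoTwo11.chkT GG (idL 22) CoTwo11.T = true := by decide +kernel

theorem hR : CoTwo11.chkR GG (idL 22) = true := by decide +kernel

/-- an element of order 11 of `Co2` inverted by an involution -/
theorem r11 : R11 Spor.Co2 := CoTwo11.r11_of M rpG tt_sq hy hR

/-- **the two facts** -/
theorem oreF11_of (hc : ∀ g : Spor.Co2, ∃ w ∈ Cfsg.Agent.H68.Ore.Co2Words.L.map H68.Ore.Words.cw,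
    IsConj (H68.Ore.Words.wd tt w) g ∨ IsConj (H68.Ore.Words.wd tt w)⁻¹ g) : OreF11 :=
  ⟨r11, fun l hl => CoTwo11.f11_of M rpG hy hT hc l hl⟩

end Cfsg.Agent.H516.Ore.CoTwoFr
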