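import Cfsg.Agent.H140.OreO.GL3

/-!
# Products of two irreducible matrices of `SL₃` (S2443, S4171): the case of the characteristic polynomial `(X - c)³`

* `Out A` : `A = X Y`, `X, Y` of determinant one with irreducible characteristic polynomials, and the characteristic
  polynomial of `Y` is that of `X` or that of `X⁻¹`;
* `m3_unip` : `Out A` for a non-scalar `A ∈ SL₃(K)` with characteristic polynomial `(X - c)³`.
-/

set_option autoImplicit false

namespace Cfsg.Agent.H516.M3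

open Polynomial Matrix Cfsg.Agent.H140.OreO.GL3

variable {F : Type*} [Field F]

/-- a product of two irreducible matrices of determinant one -/
def Out (A : Matrix (Fin 3) (Fin 3) F) : Prop :=
  ∃ X Y : Matrix (Fin 3) (Fin 3) F, X.det = 1 ∧ Y.det = 1 ∧ A = X * Y ∧ Irreducible X.charpoly ∧
    Irreducible Y.charpoly ∧ (Y.charpoly = X.charpoly ∨ Y.charpoly = (X⁻¹).charpoly)

theorem charpoly_conj {P X : Matrix (Fin 3) (Fin 3) F} (hP : P.det ≠ 0) : (P * X * P⁻¹).charpoly = X.charpoly := by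
  refine charpoly_of_sim hP ?_
  rw [Matrix.mul_assoc, nonsing_inv_mul _ hP.isUnit, Matrix.mul_one]

theorem det_conj' {P X : Matrix (Fin 3) (Fin 3) F} (hP : P.det ≠ 0) : (P * X * P⁻¹).det = X.det := by
  rw [det_mul, det_mul, det_nonsing_inv, Ring.inverse_eq_inv', mul_right_comm, mul_inv_cancel₀ hP, one_mul]

theorem conj_split {P X Y : Matrix (Fin 3) (Fin 3) F} (hu : IsUnit P.det) :
    P * (X * Y) * P⁻¹ = P * X * P⁻¹ * (P * Y * P⁻¹) := by
  have h5 : P * X * P⁻¹ * (P * Y * P⁻¹) = P * X * (P⁻¹ * P) * Y * P⁻¹ := by simp only [Matrix.mul_assoc]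
  rw [h5, nonsing_inv_mul _ hu, Matrix.mul_one, Matrix.mul_assoc P X Y]

theorem Out.of_sim {A B : Matrix (Fin 3) (Fin 3) F} (h : Sim A B) (hB : Out B) : Out A := by
  obtain ⟨P, hP, e⟩ := h
  obtain ⟨X, Y, hX, hY, rfl, h1, h2, h3⟩ := hB
  have hu : IsUnit P.det := hP.isUnit
  refine ⟨P * X * P⁻¹, P * Y * P⁻¹, ?_, ?_, ?_, ?_, ?_, ?_⟩
  · rw [det_conj' hP, hX]
  · rw [det_conj' hP, hY]
  · rw [← conj_split hu, ← e, Matrix.mul_assoc, mul_nonsing_inv _ hu, Matrix.mul_one]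
  · rw [charpoly_conj hP]
    exact h1
  · rw [charpoly_conj hP]
    exact h2
  · have h4 : (P * X * P⁻¹)⁻¹ = P * X⁻¹ * P⁻¹ := by
      rw [Matrix.mul_inv_rev, Matrix.mul_inv_rev, nonsing_inv_nonsing_inv _ hu, Matrix.mul_assoc]
    rw [h4, charpoly_conj hP, charpoly_conj hP, charpoly_conj hP]
    exact h3

/-- the inverse of the companion matrix -/
def zz (z₂ z₃ : F) : Matrix (Fin 3) (Fin 3) F := of ![![-z₂, 1, 0], ![-z₃, 0, 1], ![1, 0, 0]]

theorem yy_zz (z₂ z₃ : F) : yy 1 z₂ z₃ * zz z₂ z₃ = 1 := by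
  ext i j
  fin_cases i <;> fin_cases j <;> simp [yy, zz, Matrix.mul_apply, Fin.sum_univ_three]

theorem zz_eq_inv (z₂ z₃ : F) : zz z₂ z₃ = (yy 1 z₂ z₃)⁻¹ := (inv_eq_right_inv (yy_zz z₂ z₃)).symm

theorem yy_eq_inv (z₂ z₃ : F) : yy 1 z₂ z₃ = (zz z₂ z₃)⁻¹ := (inv_eq_left_inv (yy_zz z₂ z₃)).symm

theorem det_zz (z₂ z₃ : F) : (zz z₂ z₃).det = 1 := by
  simp [zz, det_fin_three]

theorem charpoly_zz (z₂ z₃ : F) : (zz z₂ z₃).charpoly = X ^ 3 - C (-z₂) * X ^ 2 - C (-z₃) * X - C 1 := by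
  rw [charpoly_three, det_zz]
  simp [zz, e2, trace_fin_three]

/-- irreducibility of a cubic by roots -/
theorem irr_iff (z₂ z₃ : F) : Irreducible (X ^ 3 - C z₃ * X ^ 2 - C z₂ * X - C 1 : F[X]) ↔
    ∀ r : F, r ^ 3 - z₃ * r ^ 2 - z₂ * r - 1 ≠ 0 := by
  have hdeg : (X ^ 3 - C z₃ * X ^ 2 - C z₂ * X - C 1 : F[X]).natDegree = 3 := by
    compute_degree!
  rw [Polynomial.irreducible_iff_roots_eq_zero_of_degree_le_three (by rw [hdeg]; norm_num)
    (by rw [hdeg]), Multiset.eq_zero_iff_forall_notMem]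
  have hne : (X ^ 3 - C z₃ * X ^ 2 - C z₂ * X - C 1 : F[X]) ≠ 0 := by
    intro h
    rw [h] at hdeg
    simp at hdeg
  refine forall_congr' fun r => ?_
  rw [mem_roots', IsRoot.def]
  simp only [eval_sub, eval_mul, eval_pow, eval_C, eval_X]
  constructor
  · exact fun h h' => h ⟨hne, h'⟩
  · exact fun h h' => h h'.2

/-- the reciprocal polynomial is irreducible -/
theorem irr_recip {z₂ z₃ : F} (h : Irreducible (X ^ 3 - C z₃ * X ^ 2 - C z₂ * X - C 1 : F[X])) :
    Irreducible (X ^ 3 - C (-z₂) * X ^ 2 - C (-z₃) * X - C 1 : F[X]) := by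
  rw [irr_iff] at h ⊢
  intro r hr
  have hr0 : r ≠ 0 := by
    rintro rfl
    simp at hr
  apply h r⁻¹
  field_simp
  linear_combination -hr

/-- twisting by a cube root of unity -/
theorem irr_twist {z₂ z₃ c : F} (hc : c ^ 3 = 1) (h : Irreducible (X ^ 3 - C z₃ * X ^ 2 - C z₂ * X - C 1 : F[X])) :
    Irreducible (X ^ 3 - C (c * z₃) * X ^ 2 - C (c ^ 2 * z₂) * X - C 1 : F[X]) := by
  rw [irr_iff] at h ⊢
  intro r hr
  apply h (c ^ 2 * r)
  have h6 : c ^ 6 = 1 := by
    calc c ^ 6 = (c ^ 3) ^ 2 := by ring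
      _ = 1 := by rw [hc, one_pow]
  linear_combination hr + (r ^ 3 - c * z₃ * r ^ 2) * (hc) + (r ^ 3) * (c ^ 3) * hc

/-- the characteristic polynomial of the inverse -/
theorem charpoly_inv {A : Matrix (Fin 3) (Fin 3) F} (hA : A.det = 1) :
    (A⁻¹).charpoly = X ^ 3 - C (e2 A) * X ^ 2 + C A.trace * X - C 1 := by
  have hA' := hA
  rw [det_fin_three] at hA'
  have h1 : A⁻¹ = A.adjugate := by
    rw [Matrix.inv_def, hA]
    simp
  have h2 : A.adjugate.det = 1 := by
    rw [det_adjugate, hA, one_pow]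
  rw [h1, charpoly_three, h2]
  have h3 : A.adjugate.trace = e2 A := by
    simp [adjugate_fin_three, trace_fin_three, e2]
    ring
  have h4 : e2 A.adjugate = A.trace := by
    simp [adjugate_fin_three, trace_fin_three, e2]
    linear_combination (A 0 0 + A 1 1 + A 2 2) * hA'
  rw [h3, h4]

/-- comparison of coefficients -/
theorem coeff_eq {a b d a' b' d' : F}
    (h : (X ^ 3 - C a * X ^ 2 + C b * X - C d : F[X]) = X ^ 3 - C a' * X ^ 2 + C b' * X - C d') :
    a = a' ∧ b = b' ∧ d = d' := by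
  have h0 := congrArg (fun p => coeff p 0) h
  have h1 := congrArg (fun p => coeff p 1) h
  have h2 := congrArg (fun p => coeff p 2) h
  simp [coeff_X, coeff_C, coeff_X_pow] at h0 h1 h2
  exact ⟨h2, h1, h0⟩

theorem charpoly_inv_eq {A B : Matrix (Fin 3) (Fin 3) F} (hA : A.det = 1) (hB : B.det = 1)
    (h : A.charpoly = B.charpoly) : (A⁻¹).charpoly = (B⁻¹).charpoly := by
  rw [charpoly_three, charpoly_three, hA, hB] at h
  obtain ⟨h1, h2, -⟩ := coeff_eq h
  rw [charpoly_inv hA, charpoly_inv hB, h1, h2]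

/-- regular unipotent times a scalar -/
def uu (c α β γ : F) : Matrix (Fin 3) (Fin 3) F := of ![![c, c * α, c * γ], ![0, c, c * β], ![0, 0, c]]

theorem out_uu [Finite F] (hF : 3 ≤ Nat.card F) {c : F} (hc : c ^ 3 = 1) :
    ∃ α β γ : F, α ≠ 0 ∧ β ≠ 0 ∧ Out (uu c α β γ) := by
  obtain ⟨z₂, hi⟩ := exists_cubic (1 : F) 1 one_ne_zero
  obtain ⟨α, h0, h1⟩ : ∃ α : F, α ≠ 0 ∧ α ≠ (c ^ 2 - 1) := by
    classical
    have := Fintype.ofFinite F
    rw [Nat.card_eq_fintype_card] at hF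
    have : ∃ γ ∈ (Finset.univ : Finset F), γ ∉ ({0, c ^ 2 - 1} : Finset F) := by
      apply Finset.exists_mem_notMem_of_card_lt_card
      rw [Finset.card_univ]
      exact lt_of_le_of_lt (Finset.card_le_two) (by omega)
    obtain ⟨γ, -, hγ⟩ := this
    simp only [Finset.mem_insert, Finset.mem_singleton, not_or] at hγ
    exact ⟨γ, hγ⟩
  refine ⟨α, (c ^ 2 - 1) - α, α * (1 + ((c ^ 2 - 1) - α)) - z₂ + c * z₂, h0, sub_ne_zero.2 (Ne.symm h1), ?_⟩
  set β := (c ^ 2 - 1) - α with hβ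
  set γ := α * (1 + β) - z₂ + c * z₂ with hγ
  have hdet : (yy 1 z₂ 1 * uu c α β γ).det = 1 := by
    rw [det_mul, det_yy]
    simp [uu, det_fin_three]
    linear_combination hc
  have hch : (yy 1 z₂ 1 * uu c α β γ).charpoly = (yy 1 z₂ 1).charpoly := by
    rw [charpoly_three, charpoly_three, hdet, det_yy]
    have e1 : (yy 1 z₂ 1 * uu c α β γ).trace = (yy 1 z₂ 1).trace := by
      simp [yy, uu, trace_fin_three]
      rw [hβ]
      linear_combination hc
    have e3 : e2 (yy 1 z₂ 1 * uu c α β γ) = e2 (yy 1 z₂ 1) := by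
      simp [yy, uu, e2, Matrix.mul_apply, Fin.sum_univ_three]
      rw [hγ]
      linear_combination (-z₂) * hc
    rw [e1, e3]
  refine ⟨zz z₂ 1, yy 1 z₂ 1 * uu c α β γ, det_zz _ _, hdet, ?_, ?_, ?_, Or.inr ?_⟩
  · have h2 := yy_zz z₂ (1 : F)
    have h3 : zz z₂ 1 * yy 1 z₂ 1 = 1 := by
      rw [zz_eq_inv, nonsing_inv_mul _ (by rw [det_yy]; exact isUnit_one)]
    rw [← Matrix.mul_assoc, h3, Matrix.one_mul]
  · rw [charpoly_zz]
    exact irr_recip hi
  · rw [hch, charpoly_yy]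
    exact hi
  · rw [hch, ← yy_eq_inv]

/-- a regular element with characteristic polynomial `(X - c)³` -/
theorem out_regular [Finite F] (hF : 3 ≤ Nat.card F) {A : Matrix (Fin 3) (Fin 3) F} (hdet : A.det = 1) {c : F}
    (hA : A.charpoly = (X - C c) ^ 3) (hc : ∃ v, (cols v (A *ᵥ v) (A *ᵥ (A *ᵥ v))).det ≠ 0) : Out A := by
  have hA' := hA
  rw [charpoly_three] at hA'
  have e : (X - C c) ^ 3 = X ^ 3 - C (3 * c) * X ^ 2 + C (3 * c ^ 2) * X - C (c ^ 3) := by
    simp only [C_mul, C_pow, map_ofNat]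
    ring
  rw [e] at hA'
  obtain ⟨h2, h1, h0⟩ := coeff_eq hA'
  have hc3 : c ^ 3 = 1 := by
    rw [← hdet, h0]
  obtain ⟨α, β, γ, hα, hβ, h⟩ := out_uu hF hc3
  refine Out.of_sim ?_ h
  obtain ⟨v, hv⟩ := hc
  have hc0 : c ≠ 0 := by
    rintro rfl
    simp at hc3
  have s1 := sim_of_cyclic hv
  have s2 := sim_of_cyclic (A := uu c α β γ) (v := ![0, 0, 1]) (by
    rw [det_cols]
    have h5 : -(c ^ 3 * (α * β ^ 2)) ≠ 0 :=
      neg_ne_zero.2 (mul_ne_zero (pow_ne_zero 3 hc0) (mul_ne_zero hα (pow_ne_zero 2 hβ)))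
    intro h6
    apply h5
    rw [← h6]
    simp [uu, mulVec, dotProduct, Fin.sum_univ_three]
    ring)
  have d1 : (uu c α β γ).det = 1 := by
    simp [uu, det_fin_three]
    linear_combination hc3
  have d2 : (uu c α β γ).trace = A.trace := by
    rw [h2]
    simp [uu, trace_fin_three]
    ring
  have d3 : e2 (uu c α β γ) = e2 A := by
    rw [h1]
    simp [uu, e2]
    ring
  rw [d1, d2, d3] at s2
  rw [hdet] at s1
  exact s1.trans s2.symm

/-- scalar times a transvection -/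
theorem out_nn [Finite F] {c : F} (hc : c ^ 3 = 1) : Out (nn c 0) := by
  obtain ⟨z₂, hi⟩ := exists_cubic (1 : F) 1 one_ne_zero
  have hroot := (irr_iff z₂ 1).1 hi
  by_cases hc1 : c = 1
  · subst hc1
    have hz : z₂ + 1 ≠ 0 := by
      intro h
      apply hroot 1
      linear_combination -h
    have hs : Sim (nn 1 0) (yy 1 z₂ 1 * zz (-1) (-z₂)) := by
      refine Sim.symm ⟨of ![![0, 1, 0], ![z₂ + 1, 0, 0], ![z₂ + 1, 0, 1]], ?_, ?_⟩
      · intro h
        apply hz
        simp [det_fin_three] at h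
        linear_combination -h
      · ext i j
        fin_cases i <;> fin_cases j <;>
          simp [nn, yy, zz, Matrix.mul_apply, Fin.sum_univ_three] <;> ring
    refine Out.of_sim hs ⟨yy 1 z₂ 1, zz (-1) (-z₂), det_yy _ _ _, det_zz _ _, rfl, ?_, ?_, Or.inl ?_⟩
    · rw [charpoly_yy]
      exact hi
    · rw [charpoly_zz, neg_neg, neg_neg]
      exact hi
    · rw [charpoly_zz, charpoly_yy, neg_neg, neg_neg]
  · have hc0 : c ≠ 0 := by
      rintro rfl
      simp at hc
    have hX : (c • yy 1 z₂ 1).charpoly = X ^ 3 - C (c * 1) * X ^ 2 - C (c ^ 2 * z₂) * X - C 1 := by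
      rw [charpoly_three]
      have e1 : (c • yy 1 z₂ 1).trace = c * 1 := by
        simp [yy, trace_fin_three]
      have e3 : e2 (c • yy 1 z₂ 1) = -(c ^ 2 * z₂) := by
        simp [yy, e2]
        ring
      have e4 : (c • yy 1 z₂ 1).det = 1 := by
        rw [det_smul, det_yy, Fintype.card_fin, hc, one_mul]
      rw [e1, e3, e4, C_neg]
      ring
    have hXd : (c • yy 1 z₂ 1).det = 1 := by
      rw [det_smul, det_yy, Fintype.card_fin, hc, one_mul]
    have hs : Sim (nn c 0) (c • yy 1 z₂ 1 * zz (c ^ 2 * z₂) (c * 1)) := by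
      refine Sim.symm ⟨of ![![0, 1, 0], ![c * (z₂ - c ^ 2 * z₂), 0, 1], ![c * (1 - c), 0, 0]], ?_, ?_⟩
      · have h1 : c * (1 - c) ≠ 0 := mul_ne_zero hc0 (sub_ne_zero.2 (Ne.symm hc1))
        simpa [det_fin_three] using h1
      · ext i j
        fin_cases i <;> fin_cases j <;>
          simp [nn, yy, zz, Matrix.mul_apply, Fin.sum_univ_three] <;> ring
    have hY : (zz (c ^ 2 * z₂) (c * 1)).charpoly = (c • yy 1 z₂ 1)⁻¹.charpoly := by
      rw [zz_eq_inv]
      refine charpoly_inv_eq (det_yy _ _ _) hXd ?_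
      rw [charpoly_yy, hX]
    refine Out.of_sim hs ⟨c • yy 1 z₂ 1, zz (c ^ 2 * z₂) (c * 1), hXd, det_zz _ _, rfl, ?_, ?_, Or.inr hY⟩
    · rw [hX]
      exact irr_twist hc hi
    · rw [charpoly_zz]
      exact irr_recip (irr_twist hc hi)

/-- **The case `(X - c)³`.** -/
theorem m3_unip [Finite F] (hF : 3 ≤ Nat.card F) {A : Matrix (Fin 3) (Fin 3) F} (hdet : A.det = 1)
    (hns : ∀ a : F, A ≠ a • (1 : Matrix (Fin 3) (Fin 3) F)) {c : F} (hA : A.charpoly = (X - C c) ^ 3) : Out A := by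
  rcases cyclic_or_quadratic A with h | ⟨α, β, h⟩
  · exact out_regular hF hdet hA h
  · obtain ⟨l, d, hs⟩ := sim_nn_of_quadratic hns h
    have hch : A.charpoly = (nn l d).charpoly := by
      obtain ⟨P, hP, e⟩ := hs
      exact charpoly_of_sim hP e
    have hl : (A.charpoly).eval l = 0 := by
      rw [hch, charpoly_three]
      simp [nn, trace_fin_three, e2, det_fin_three]
      ring
    have hld : (A.charpoly).eval (l + d) = 0 := by
      rw [hch, charpoly_three]
      simp [nn, trace_fin_three, e2, det_fin_three]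
      ring
    rw [hA] at hl hld
    simp only [eval_pow, eval_sub, eval_X, eval_C] at hl hld
    have hlc : l = c := sub_eq_zero.1 (pow_eq_zero_iff (by norm_num) |>.1 hl)
    have hd : d = 0 := by
      have := sub_eq_zero.1 (pow_eq_zero_iff (by norm_num) |>.1 hld)
      rw [hlc] at this
      linear_combination this
    subst hd
    rw [hlc] at hs
    have hc3 : c ^ 3 = 1 := by
      have h1 := congrArg (fun p => eval 0 p) hA
      rw [charpoly_three, hdet] at h1
      simp at h1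
      linear_combination h1
    exact Out.of_sim hs (out_nn hc3)

end Cfsg.Agent.H516.M3
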